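import Cfsg.Agent.Base
import Cfsg.Agent.JJ.H0Data
import Cfsg.Agent.JJ.H1Data

/-!
# The groups `2^(1+4)_- : A₅` and `2^(1+4)_- · A₅` as table groups; computed facts
-/

set_option autoImplicit false

namespace CL.JJ

open CL.TC

/-- The split extension `2^(1+4)_- : A₅`. -/
abbrev HH : Type := H0.grp.Grp

/-- The nonsplit extension. -/
abbrev HN : Type := H1.grp.Grp

namespace H0

/-- Elements by index. -/
noncomputable abbrev E (i : Nat) : HH := grp.el i

/-- the 3-cycle `(012)` -/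
noncomputable def x : HH := E 1
/-- `(01)(23)` -/
noncomputable def u : HH := E 3
/-- `(01)(34)` -/
noncomputable def n : HH := E 4
/-- `v₃` -/
noncomputable def t : HH := E 5
/-- the central involution -/
noncomputable def z : HH := E 1408
/-- `v₄` -/
noncomputable def v : HH := E 48

theorem gen_eq : grp.gen 0 = x ∧ grp.gen 1 = x⁻¹ ∧ grp.gen 2 = u ∧ grp.gen 3 = n ∧
    grp.gen 4 = t := by decide +kernel

theorem card_eq : Nat.card HH = 1920 := grp.card_grp

theorem z_eq : z = t * n * t * n * (t * n * t * n) := by decide +kernel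
theorem v_eq : v = n * t * n := by decide +kernel
theorem sq : u * u = 1 ∧ n * n = 1 ∧ t * t = 1 ∧ z * z = 1 ∧ v * v = 1 := by decide +kernel
theorem ne_one : x ≠ 1 ∧ u ≠ 1 ∧ z ≠ 1 ∧ v ≠ 1 ∧ v ≠ z ∧ u ≠ z ∧ t ≠ 1 ∧ t ≠ z := by
  decide +kernel
theorem x_cube : x * x * x = 1 := by decide +kernel
theorem xu_cube : x * u * (x * u) * (x * u) = 1 := by decide +kernel
theorem comm_z : ∀ h : HH, h * z = z * h := Tab.forall_of_all (by decide +kernel)
theorem tvt : t * v * t⁻¹ = v * z := by decide +kernel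
theorem comm_basic : x * v = v * x ∧ u * v = v * u ∧ t * x = x * t ∧ n * x * n = x⁻¹ ∧
    t * u * t * v = v * (t * u * t) := by decide +kernel

/-- conjugators and conjugates of `v` -/
def Lv : List (Nat × Nat) :=
  [(0, 48), (4, 5), (5, 273), (14, 42), (17, 879), (22, 144), (30, 180), (41, 265), (60, 647),
   (79, 767)]

/-- conjugators and conjugates of `u` -/
def Lu : List (Nat × Nat) :=
  [(0, 3), (1, 21), (2, 28), (4, 40), (5, 52), (7, 139), (8, 158), (10, 175), (11, 193), (14,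
   4), (15, 237), (17, 249), (22, 10), (23, 591), (25, 609), (30, 7), (31, 712), (33, 733), (36,
   344), (37, 793), (38, 286), (39, 818), (41, 251), (46, 242), (51, 54), (52, 957), (55, 93),
   (56, 1276), (57, 355), (58, 496), (60, 391), (65, 599), (70, 92), (71, 1629), (74, 275), (75,
   521), (76, 97), (77, 1097), (79, 321), (84, 720), (89, 73), (90, 1744), (94, 1522), (98,
   1588), (112, 1246), (113, 1086), (116, 1782), (118, 1272), (119, 289), (120, 1114), (121,
   1173), (122, 968), (131, 1178), (135, 1260), (149, 478), (150, 1267), (153, 1903), (155,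
   499), (156, 348), (157, 1200), (158, 479), (159, 1316), (168, 1091), (172, 973), (186, 1071),
   (187, 493), (190, 1910), (192, 1023), (193, 105), (194, 509), (195, 1022), (196, 1147), (206,
   1170), (211, 448), (217, 1020), (222, 430), (246, 366), (247, 1834), (253, 1898), (257, 969),
   (287, 1195), (292, 995), (316, 103), (317, 1864), (323, 1877), (327, 1527), (386, 297), (387,
   1387), (393, 1843), (397, 1180), (414, 473), (415, 1868), (418, 1919), (420, 1304), (422,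
   1415), (424, 1886), (432, 1839), (433, 526), (436, 1918), (438, 1412), (440, 1045), (442,
   1883), (499, 1174), (504, 1473), (509, 1849), (514, 980), (554, 1817), (555, 1130), (558,
   1894), (560, 1836), (562, 1230), (564, 1896), (631, 1871), (636, 1519), (781, 108), (788,
   1268), (811, 492), (821, 302), (857, 1094), (866, 374)]

theorem Lv_spec : ∀ p ∈ Lv, E p.1 * v * (E p.1)⁻¹ = E p.2 := by decide +kernel
theorem Lu_spec : ∀ p ∈ Lu, E p.1 * u * (E p.1)⁻¹ = E p.2 := by decide +kernel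

theorem invol_mem : ∀ h : HH, h * h = 1 →
    h = 1 ∨ h = z ∨ h.1 ∈ Lv.map Prod.snd ∨ h.1 ∈ Lu.map Prod.snd :=
  Tab.forall_of_all (by decide +kernel)

theorem isConj_v {h : HH} (hh : h.1 ∈ Lv.map Prod.snd) : IsConj v h := by
  obtain ⟨p, hp, e⟩ := List.mem_map.1 hh
  exact isConj_iff.2 ⟨_, by rw [Lv_spec p hp, e]; exact grp.el_val h⟩

theorem isConj_u {h : HH} (hh : h.1 ∈ Lu.map Prod.snd) : IsConj u h := by
  obtain ⟨p, hp, e⟩ := List.mem_map.1 hh
  exact isConj_iff.2 ⟨_, by rw [Lu_spec p hp, e]; exact grp.el_val h⟩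

theorem invol (h : HH) (hh : h * h = 1) : h = 1 ∨ h = z ∨ IsConj v h ∨ IsConj u h := by
  rcases invol_mem h hh with h1 | h1 | h1 | h1
  · exact Or.inl h1
  · exact Or.inr (Or.inl h1)
  · exact Or.inr (Or.inr (Or.inl (isConj_v h1)))
  · exact Or.inr (Or.inr (Or.inr (isConj_u h1)))

theorem card_cent_v : Nat.card {h : HH // h * v = v * h} = 192 := by
  rw [Tab.card_eq_cnt (by decide +kernel)]; decide +kernel

theorem card_cent_u : Nat.card {h : HH // h * u = u * h} = 16 := by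
  rw [Tab.card_eq_cnt (by decide +kernel)]; decide +kernel

/-- The pairs counted in the order formula. -/
noncomputable def pairs : List (Nat × Nat) :=
  ((1408 :: Lv.map Prod.snd).product (Lu.map Prod.snd)).filter fun p =>
    decide (E p.1 * E p.2 ≠ E p.2 * E p.1)

theorem length_pairs : pairs.length = 960 := by decide +kernel

theorem mul_ne_z : ∀ a ∈ 1408 :: Lv.map Prod.snd, ∀ b ∈ Lu.map Prod.snd, E a * E b ≠ z := by
  decide +kernel

theorem conj_three : ∀ h : HH, h * v = v * h → h * h * h = 1 → h ≠ 1 →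
    ∃ c ∈ [0, 3, 12, 13, 52, 109, 119, 121, 212, 223, 233, 235, 254, 258, 421, 441],
      E c * v = v * E c ∧ (E c * h * (E c)⁻¹ = x ∨ E c * h * (E c)⁻¹ = x⁻¹) :=
  Tab.forall_of_all (by decide +kernel)

theorem not_invert : ∀ h : HH, h * v = v * h → h * x * h⁻¹ ≠ x⁻¹ :=
  Tab.forall_of_all (by decide +kernel)

theorem inverted : ∀ h : HH, h * v = v * h → h * x = x * h → t * h * t = h⁻¹ → h = 1 ∨ h = z :=
  Tab.forall_of_all (by decide +kernel)

theorem six : ∀ h : HH, h * v = v * h → h * h = 1 → x * h * (x * h) * (x * h) = 1 → h ≠ 1 →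
    ∃ k ∈ [1, x, x⁻¹], h = k * u * k⁻¹ ∨ h = k * (t * u * t) * k⁻¹ :=
  Tab.forall_of_all (by decide +kernel)

/-- The elements of `A = C(u)`. -/
noncomputable def e (i : Nat) : HH :=
  E ([0, 1408, 48, 273, 3, 957, 105, 479, 21, 1629, 289, 1022, 28, 1744, 348, 1173].getD i 0)

theorem e_basic : e 0 = 1 ∧ e 1 = z ∧ e 2 = v ∧ e 3 = v * z ∧ e 4 = u ∧ e 8 = x * u * x⁻¹ ∧
    e 12 = x⁻¹ * u * x := by decide +kernel

theorem e_mul : ∀ i < 16, ∀ j < 16, e (i ^^^ j) = e i * e j := by decide +kernel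

theorem e_inj : ∀ i < 16, ∀ j < 16, e i = e j → i = j := by decide +kernel

theorem mem_A : ∀ h : HH, h * u = u * h → ∃ i < 16, h = e i :=
  Tab.forall_of_all (by decide +kernel)

theorem e_conj_u_aux : ∀ i < 16, 4 ≤ i → ∃ c ∈ [0, 52, 193, 158, 1, 71, 119, 195, 2, 90, 156, 121],
    E c * v = v * E c ∧ E c * u * (E c)⁻¹ = e i := by decide +kernel

theorem norm_A : ∀ h : HH, h * u * h⁻¹ * u = u * (h * u * h⁻¹) →
    h * v * h⁻¹ * u = u * (h * v * h⁻¹) → h * v = v * h :=
  Tab.forall_of_all (by decide +kernel)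

theorem cent_v_A : ∀ h : HH, h * v = v * h → h * u * h⁻¹ * u = u * (h * u * h⁻¹) :=
  Tab.forall_of_all (by decide +kernel)

theorem act_x : ∀ i < 16, x * e i * x⁻¹ =
    e ([0, 1, 2, 3, 8, 9, 10, 11, 12, 13, 14, 15, 4, 5, 6, 7].getD i 0) := by decide +kernel

theorem act_r : ∀ i < 16, t * u * t * e i * (t * u * t)⁻¹ =
    e ([0, 1, 2, 3, 5, 4, 7, 6, 10, 11, 8, 9, 15, 14, 13, 12].getD i 0) := by decide +kernel

theorem cent_x : ∀ h : HH, h * x = x * h →
    ∃ k ∈ [1, x, x⁻¹], ∃ d ∈ [1, t, v, t * v, v * t, z, t * z, v * z], h = k * d :=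
  Tab.forall_of_all (by decide +kernel)

/-- The candidates for an involution in `C(t) ∩ C(y)`, conjugated into `H`. -/
noncomputable def cand : List HH :=
  [u, t * u * t, n * u * n, n * t * u * t * n, v, v * z, t, t * z, z]

/-- Their `x`-conjugates. -/
def cand' : List Nat :=
  [3, 5, 21, 28, 40, 48, 52, 139, 158, 175, 193, 249, 273, 609, 733, 879, 1408]

theorem cand'_spec : ∀ i ∈ cand', ∃ k ∈ [1, x, x⁻¹], k * E i * k⁻¹ ∈ cand := by decide +kernel

theorem cand_of_cent : ∀ h : HH, h * x = x * h →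
    h ∈ [1, x, x⁻¹] ∨ (h ^ 3).1 ∈ cand' ∨ (h ^ 6).1 ∈ cand' :=
  Tab.forall_of_all (by decide +kernel)

theorem cand_of_not_norm : ∀ s : HH, s * x * s⁻¹ = x ∨ s * x * s⁻¹ = x⁻¹ ∨
    ((s * x * s⁻¹ * x) ^ 3).1 ∈ cand' ∨ ((s * x * s⁻¹ * x⁻¹) ^ 3).1 ∈ cand' ∨
    (s ^ 5).1 ∈ cand' ∨ (s ^ 4).1 ∈ cand' ∨ ((s * s * x * s * x⁻¹) ^ 4).1 ∈ cand' ∨
    ((s * x * s⁻¹ * x⁻¹ * s) ^ 3).1 ∈ cand' ∨ ((s * s * x * s⁻¹) ^ 5).1 ∈ cand' ∨
    (s * s * x⁻¹ * s⁻¹).1 ∈ cand' :=
  Tab.forall_of_all (by decide +kernel)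

end H0

namespace H1

/-- the central involution -/
noncomputable def z : HN := grp.el 20
/-- a noncentral involution -/
noncomputable def v : HN := grp.el 95

theorem card_eq : Nat.card HN = 1920 := grp.card_grp

theorem z_eq : z = (grp.gen 6 * grp.gen 4 * grp.gen 6 * grp.gen 5) ^ 2 := by decide +kernel

theorem invol : ∀ h : HN, h * h = 1 → h = 1 ∨ h = z ∨
    ∃ c ∈ [0, 5, 7, 21, 29, 38, 55, 78, 117, 156], grp.el c * v * (grp.el c)⁻¹ = h :=
  Tab.forall_of_all (by decide +kernel)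

theorem card_sq_z : Nat.card {h : HN // h * v = v * h ∧ h * h = z} = 36 := by
  rw [Tab.card_eq_cnt (by decide +kernel)]; decide +kernel

theorem card_sq_v : Nat.card {h : HN // h * v = v * h ∧ h * h = v} = 12 := by
  rw [Tab.card_eq_cnt (by decide +kernel)]; decide +kernel

end H1

end CL.JJ
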