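import Cfsg.Agent.Base
import Cfsg.Agent.JJ.H0
import Cfsg.Agent.JJ.J2Data

/-!
# The presentations of `J₂` and `J₃`; the order bound for `J₂`; the group on 100 points
-/

set_option autoImplicit false

namespace CL.JJ

open CL.TC

/-- Columns `0 = x, 1 = x⁻¹, 2 = y, 3 = y⁻¹, 4 = u, 5 = n, 6 = t, 7 = w`. -/
def col {G : Type*} [Group G] (x y u n t w : G) : Nat → G
  | 0 => x
  | 1 => x⁻¹
  | 2 => y
  | 3 => y⁻¹
  | 4 => u
  | 5 => n
  | 6 => t
  | 7 => w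
  | _ => 1

/-- The relators of `H = ⟨x, u, n, t⟩`. -/
def relsH : List (List Nat) :=
  [[0,0,0], [0,4,0,4,0,4], [5,0,5,0], [5,4,5,4,5,4], [6,0,6,1], [6,5,4,5,6,5,4,5],
   [6,5,6,5,6,5,6,5,6,5,6,5,6,5,6,5], [6,5,6,5,6,5,6,5,4,5,6,5,6,5,6,5,6,4],
   [6,5,6,5,6,5,6,5,5,5,6,5,6,5,6,5,6,5], [0,4,6,4,1,0,0,4,6,4,1,1,4,6,4,6,5,6,5]]

/-- The relators involving `y`. -/
def relsY : List (List Nat) := [[2,2,2], [0,2,1,3], [6,2,6,2], [2,4,3,0,4,1]]

/-- The extra relator of `J₂`. -/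
def relJ2 : List Nat := [5,3,5,6,4,6,5,2,5,2,5,3,5,6,4,6,5,2,5,3]

/-- A column function compatible with inverses (7 columns). -/
def Cols {G : Type*} [Group G] (g : Nat → G) : Prop :=
  g 1 = (g 0)⁻¹ ∧ g 3 = (g 2)⁻¹ ∧ g 4 * g 4 = 1 ∧ g 5 * g 5 = 1 ∧ g 6 * g 6 = 1

/-- The relations of the amalgam of `C(z)` and `N(V)`. -/
structure Base {G : Type*} [Group G] (g : Nat → G) : Prop where
  cols : Cols g
  rH : ∀ r ∈ relsH, ev g r = 1
  rY : ∀ r ∈ relsY, ev g r = 1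

variable {G : Type*} [Group G] {g : Nat → G}

theorem ev_map (g : Nat → G) (c : Nat → Nat) (w : List Nat) :
    ev g (w.map c) = ev (fun j => g (c j)) w := by
  simp [ev, Function.comp_def]

theorem Cols.inv7 (h : Cols g) {inv : Nat → Nat}
    (hi : inv 0 = 1 ∧ inv 1 = 0 ∧ inv 2 = 3 ∧ inv 3 = 2 ∧ inv 4 = 4 ∧ inv 5 = 5 ∧ inv 6 = 6) :
    ∀ j, j < 7 → g (inv j) = (g j)⁻¹ := by
  obtain ⟨h1, h2, h3, h4, h5⟩ := h
  obtain ⟨i0, i1, i2, i3, i4, i5, i6⟩ := hi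
  intro j hj
  interval_cases j
  · rw [i0, h1]
  · rw [i1, h1, inv_inv]
  · rw [i2, h2]
  · rw [i3, h2, inv_inv]
  · rw [i4, inv_eq_of_mul_eq_one_right h3]
  · rw [i5, inv_eq_of_mul_eq_one_right h4]
  · rw [i6, inv_eq_of_mul_eq_one_right h5]

theorem Base.map {G' : Type*} [Group G'] (h : Base g) (f : G →* G') : Base fun j => f (g j) := by
  obtain ⟨⟨h1, h2, h3, h4, h5⟩, h6, h7⟩ := h
  refine ⟨⟨?_, ?_, ?_, ?_, ?_⟩, fun r hr => ?_, fun r hr => ?_⟩
  · simp [h1]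
  · simp [h2]
  · simp [← map_mul, h3]
  · simp [← map_mul, h4]
  · simp [← map_mul, h5]
  · rw [← map_ev, h6 r hr, map_one]
  · rw [← map_ev, h7 r hr, map_one]

theorem ev_prod {G' : Type*} [Group G'] (g : Nat → G) (g' : Nat → G') (w : List Nat) :
    ev (fun j => (g j, g' j)) w = (ev g w, ev g' w) := by
  induction w with
  | nil => rfl
  | cons j w ih => simp [ih]

theorem Base.prod {G' : Type*} [Group G'] {g' : Nat → G'} (h : Base g) (h' : Base g') :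
    Base fun j => (g j, g' j) := by
  obtain ⟨⟨h1, h2, h3, h4, h5⟩, h6, h7⟩ := h
  obtain ⟨⟨k1, k2, k3, k4, k5⟩, k6, k7⟩ := h'
  refine ⟨⟨?_, ?_, ?_, ?_, ?_⟩, fun r hr => ?_, fun r hr => ?_⟩
  · simp [h1, k1]
  · simp [h2, k2]
  · simp [h3, k3]
  · simp [h4, k4]
  · simp [h5, k5]
  · rw [ev_prod, h6 r hr, k6 r hr]; rfl
  · rw [ev_prod, h7 r hr, k7 r hr]; rfl

/-- The relators of `H` give a homomorphism from the table group. -/
theorem exists_lift_H (hc : g 1 = (g 0)⁻¹ ∧ g 4 * g 4 = 1 ∧ g 5 * g 5 = 1 ∧ g 6 * g 6 = 1)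
    (h : ∀ r ∈ relsH, ev g r = 1) :
    ∃ φ : HH →* G, φ H0.x = g 0 ∧ φ H0.u = g 4 ∧ φ H0.n = g 5 ∧ φ H0.t = g 6 ∧
      φ.range = Subgroup.closure {g 0, g 4, g 5, g 6} := by
  obtain ⟨h1, h2, h3, h4⟩ := hc
  let c : Nat → Nat := fun j => [0, 1, 4, 5, 6].getD j 0
  have hi : H0.invc 0 = 1 ∧ H0.invc 1 = 0 ∧ H0.invc 2 = 2 ∧ H0.invc 3 = 3 ∧ H0.invc 4 = 4 := by
    decide +kernel
  have hr : H0.rels.map (List.map c) = relsH := by decide +kernel
  obtain ⟨φ, hφ, hrange⟩ := H0.grp.exists_lift (fun j => g (c j)) (by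
    intro j hj
    change j < 5 at hj
    change g (c (H0.invc j)) = _
    obtain ⟨i0, i1, i2, i3, i4⟩ := hi
    interval_cases j
    · rw [i0]; exact h1
    · rw [i1]; change g 0 = (g 1)⁻¹; rw [h1, inv_inv]
    · rw [i2]; exact (inv_eq_of_mul_eq_one_right h2).symm
    · rw [i3]; exact (inv_eq_of_mul_eq_one_right h3).symm
    · rw [i4]; exact (inv_eq_of_mul_eq_one_right h4).symm) (by
    intro r hr'
    rw [← ev_map]
    exact h _ (hr ▸ List.mem_map_of_mem hr'))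
  obtain ⟨e0, e1, e2, e3, e4⟩ := H0.gen_eq
  refine ⟨φ, e0 ▸ hφ 0 (by decide), e2 ▸ hφ 2 (by decide), e3 ▸ hφ 3 (by decide),
    e4 ▸ hφ 4 (by decide), ?_⟩
  rw [hrange]
  apply le_antisymm
  · rw [Subgroup.closure_le]
    rintro _ ⟨j, hj, rfl⟩
    change j < 5 at hj
    interval_cases j
    · exact Subgroup.subset_closure (by simp [c])
    · change g 1 ∈ _
      rw [h1]; exact Subgroup.inv_mem _ (Subgroup.subset_closure (by simp))
    · exact Subgroup.subset_closure (by simp [c])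
    · exact Subgroup.subset_closure (by simp [c])
    · exact Subgroup.subset_closure (by simp [c])
  · apply Subgroup.closure_mono
    rintro a (rfl | rfl | rfl | rfl)
    exacts [⟨0, by decide, rfl⟩, ⟨2, by decide, rfl⟩, ⟨3, by decide, rfl⟩, ⟨4, by decide, rfl⟩]

theorem Base.exists_lift (h : Base g) :
    ∃ φ : HH →* G, φ H0.x = g 0 ∧ φ H0.u = g 4 ∧ φ H0.n = g 5 ∧ φ H0.t = g 6 ∧
      φ.range = Subgroup.closure {g 0, g 4, g 5, g 6} :=
  exists_lift_H ⟨h.cols.1, h.cols.2.2⟩ h.rH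

theorem subsH_mem {K : Subgroup G} (hK : Subgroup.closure {g 0, g 4, g 5, g 6} ≤ K) :
    ∀ r ∈ [[0], [4], [5], [6]], ev g r ∈ K := by
  intro r hr
  simp only [List.mem_cons, List.not_mem_nil, or_false] at hr
  rcases hr with rfl | rfl | rfl | rfl <;>
    simpa using hK (Subgroup.subset_closure (by simp))

/-- The subgroup generated by the first `k` columns. -/
def genBy (g : Nat → G) (k : Nat) : Subgroup G := Subgroup.closure {a | ∃ j, j < k ∧ g j = a}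

theorem Base.rels_append (h : Base g) {l : List (List Nat)} (hl : ∀ r ∈ l, ev g r = 1) :
    ∀ r ∈ relsH ++ relsY ++ l, ev g r = 1 := by
  intro r hr
  rcases List.mem_append.1 hr with hr | hr
  · rcases List.mem_append.1 hr with hr | hr
    exacts [h.rH r hr, h.rY r hr]
  · exact hl r hr

/-- The order bound for `J₂`. -/
theorem Base.card_le_J2 (h : Base g) (h2 : ev g relJ2 = 1) :
    Finite (genBy g 7) ∧ Nat.card (genBy g 7) ≤ 604800 := by
  obtain ⟨φ, -, -, -, -, hr⟩ := h.exists_lift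
  have : Finite φ.range := Finite.of_surjective _ φ.rangeRestrict_surjective
  have h3 : Nat.card φ.range ≤ 1920 := by
    rw [← H0.card_eq]
    exact Nat.card_le_card_of_surjective _ φ.rangeRestrict_surjective
  obtain ⟨h4, h5⟩ := J2.ok.card_le (by norm_num) g φ.range (h.cols.inv7 (by decide +kernel))
    (h.rels_append (l := [relJ2]) (by simpa using h2)) (subsH_mem hr.ge)
  exact ⟨h4, h5.trans (by omega)⟩

/-- The generators of the group on 100 points. -/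
noncomputable def pg (j : Nat) : Equiv.Perm (Fin 100) := P100.ptab.perm j

/-- The group on 100 points. -/
noncomputable def P : Subgroup (Equiv.Perm (Fin 100)) := genBy pg 7

theorem pg_rels : ∀ r ∈ relsH ++ relsY ++ [relJ2], ev pg r = 1 :=
  P100.ptab.ev_eq_one P100.ptab_rels

theorem pg_inv_apply {w : List Nat} (hw : ∀ j ∈ w, j < 7) (i : Fin 100) :
    (((ev pg w)⁻¹ i : Fin 100) : Nat) = runL P100.tab w i :=
  P100.ptab.ev_inv_apply hw i

theorem pg_base : Base pg := by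
  have h : ∀ j, j < 7 → pg (P100.invc j) = (pg j)⁻¹ := fun j hj => P100.ptab.perm_invc hj
  have hi : P100.invc 0 = 1 ∧ P100.invc 2 = 3 ∧ P100.invc 4 = 4 ∧ P100.invc 5 = 5 ∧
    P100.invc 6 = 6 := by decide +kernel
  refine ⟨⟨?_, ?_, ?_, ?_, ?_⟩, fun r hr => pg_rels r (by simp [hr]),
    fun r hr => pg_rels r (by simp [hr])⟩
  · rw [← h 0 (by norm_num), hi.1]
  · rw [← h 2 (by norm_num), hi.2.1]
  · rw [← eq_inv_iff_mul_eq_one, ← h 4 (by norm_num), hi.2.2.1]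
  · rw [← eq_inv_iff_mul_eq_one, ← h 5 (by norm_num), hi.2.2.2.1]
  · rw [← eq_inv_iff_mul_eq_one, ← h 6 (by norm_num), hi.2.2.2.2]

theorem pg_relJ2 : ev pg relJ2 = 1 := pg_rels _ (by simp)

theorem card_P_le : Nat.card P ≤ 604800 := (pg_base.card_le_J2 pg_relJ2).2

end CL.JJ
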